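import Groth.Agent.FibDesc.K760.SoftGlob
import Groth.Agent.FibDesc.K781.Defs4
import Groth.Agent.FibDesc.K781.TotSh
import Groth.Agent.CohtopA.NbhdColim

/-!
# Proper base change for the Godement complex
-/

set_option autoImplicit false
set_option backward.isDefEq.respectTransparency false
set_option backward.isDefEq.respectTransparency.types false

universe v u

open CategoryTheory CategoryTheory.Limits ComplexShape Opposite TopologicalSpace
open K781.Desc K781.God K781.Fib K781.Flq
open Groth.Agent.CohtopA.Sec Groth.Agent.CohtopA.ColimSections Groth.Agent.CohtopA.Germ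
open Groth.Agent.CohtopA.Soft Groth.Agent.CohtopA.ProperBC Groth.Agent.CohtopA.ProperBCHigher
open Groth.Agent.CohtopB.TopPull

namespace K760.PBC

section Single

variable {A : Type*} [Category* A] [Abelian A] {B : Type*} [Category* B] [Abelian B]

/-- The augmentation of a spliced complex, after a functor. -/
lemma quasiIso_map_aug {K : CochainComplex A ℤ} (h : K781.Spl.Data K) (F : A ⥤ B) [F.Additive]
    (hh : ∀ n, (ShortComplex.mk ((h.map F).i n) ((h.map F).p n) ((h.map F).w n)).ShortExact) :
    QuasiIso ((F.mapHomologicalComplex (up ℤ)).map h.aug) := by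
  have h1 := (h.map F).quasiIso_aug hh
  have h2 : (h.map F).aug = (HomologicalComplex.singleMapHomologicalComplex F (up ℤ) 0).inv.app (h.q 0) ≫
      (F.mapHomologicalComplex (up ℤ)).map h.aug := by
    apply HomologicalComplex.from_single_hom_ext
    rw [K781.Spl.Data.aug_f_zero, HomologicalComplex.comp_f,
      HomologicalComplex.singleMapHomologicalComplex_inv_app_self]
    change _ = (_ ≫ _) ≫ F.map (h.aug.f 0)
    rw [K781.Spl.Data.aug_f_zero, Category.assoc, ← F.map_comp, Iso.inv_hom_id_assoc]
    rfl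
  rw [h2] at h1
  exact (quasiIso_iff_comp_left _ _).1 h1

lemma isIso_app_single {F F' : A ⥤ B} [F.Additive] [F'.Additive] (α : F ⟶ F') (X : A) (h : IsIso (α.app X)) :
    IsIso ((NatTrans.mapHomologicalComplex α (up ℤ)).app ((HomologicalComplex.single A (up ℤ) 0).obj X)) := by
  have : ∀ n, IsIso (((NatTrans.mapHomologicalComplex α (up ℤ)).app
      ((HomologicalComplex.single A (up ℤ) 0).obj X)).f n) := by
    intro n
    change IsIso (α.app (((HomologicalComplex.single A (up ℤ) 0).obj X).X n))
    by_cases hn : n = 0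
    · subst hn
      exact (NatTrans.isIso_app_iff_of_iso α (HomologicalComplex.singleObjXSelf (up ℤ) 0 X)).2 h
    · have hz := HomologicalComplex.isZero_single_obj_X (up ℤ) 0 X n hn
      exact IsZero.isIso (F.map_isZero hz) (F'.map_isZero hz) _
  exact HomologicalComplex.Hom.isIso_of_components _

end Single

variable {S : TopCat.{u}}

section Stalk

/-- Stalks of presheaves. -/
noncomputable abbrev stP {X : TopCat.{u}} (x : X) : ((Opens X)ᵒᵖ ⥤ AddCommGrpCat.{u}) ⥤ AddCommGrpCat.{u} :=
  TopCat.Presheaf.stalkFunctor AddCommGrpCat.{u} x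

instance {X : TopCat.{u}} (x : X) : (stP x).Additive :=
  inferInstanceAs (TopCat.Presheaf.stalkFunctor AddCommGrpCat.{u} x).Additive

instance {X : TopCat.{u}} (x : X) : PreservesFiniteLimits (stP x) :=
  inferInstanceAs (PreservesFiniteLimits ((Functor.whiskeringLeft _ _ AddCommGrpCat.{u}).obj
    (OpenNhds.inclusion x).op ⋙ colim))

instance {X : TopCat.{u}} (x : X) : PreservesFiniteColimits (stP x) :=
  inferInstanceAs (PreservesFiniteColimits ((Functor.whiskeringLeft _ _ AddCommGrpCat.{u}).obj
    (OpenNhds.inclusion x).op ⋙ colim))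

/-- The stalk functor. -/
noncomputable abbrev stF (T : Over S) (t : T.left) : ((Over S)ᵒᵖ ⥤ AddCommGrpCat.{u}) ⥤ AddCommGrpCat.{u} :=
  (Functor.whiskeringLeft _ _ _).obj (subF T).op ⋙ stP t

instance (T : Over S) (t : T.left) : (stF T t).Additive := inferInstance

instance (T : Over S) (t : T.left) : PreservesFiniteLimits (stF T t) := inferInstance

instance (T : Over S) (t : T.left) : PreservesFiniteColimits (stF T t) := inferInstance

lemma stRes_naturality {T T' : Over S} (h : T' ⟶ T) (t : T'.left) {Q Q' : (Over S)ᵒᵖ ⥤ AddCommGrpCat.{u}}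
    (φ : Q ⟶ Q') : (stF T (h.left t)).map φ ≫ stRes Q' h t = stRes Q h t ≫ (stF T' t).map φ := by
  refine TopCat.Presheaf.stalk_hom_ext _ fun U hU => ?_
  ext x
  have h1 := stRes_gm Q h t U hU ((Opens.map h.left).obj U) hU (fun _ hx => hx) x
  have h2 := stRes_gm Q' h t U hU ((Opens.map h.left).obj U) hU (fun _ hx => hx) (φ.app _ x)
  have h3 := TopCat.Presheaf.stalkFunctor_map_germ_apply (C := AddCommGrpCat.{u}) U (h.left t) hU
    (Functor.whiskerLeft (subF T).op φ) x
  have h4 := TopCat.Presheaf.stalkFunctor_map_germ_apply (C := AddCommGrpCat.{u}) ((Opens.map h.left).obj U) t hU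
    (Functor.whiskerLeft (subF T').op φ) (Q.map (subRes h ((Opens.map h.left).obj U) U (fun _ hx => hx)).op x)
  have h5 := ConcreteCategory.congr_hom
    (φ.naturality (subRes h ((Opens.map h.left).obj U) U (fun _ hx => hx)).op) x
  change stRes Q' h t ((stF T (h.left t)).map φ (gm Q T (h.left t) U hU x)) =
    (stF T' t).map φ (stRes Q h t (gm Q T (h.left t) U hU x))
  rw [h1]
  refine (congrArg (stRes Q' h t) h3).trans ?_
  refine Eq.trans h2 ?_
  refine Eq.trans ?_ h4.symm
  exact congrArg (gm Q' T' t ((Opens.map h.left).obj U) hU) h5.symm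

/-- Restriction on stalks, as a natural transformation. -/
noncomputable def stResN {T T' : Over S} (h : T' ⟶ T) (t : T'.left) : stF T (h.left t) ⟶ stF T' t where
  app Q := stRes Q h t
  naturality _ _ φ := stRes_naturality h t φ

variable (P : (Over S)ᵒᵖ ⥤ AddCommGrpCat.{u})

lemma injective_toGod (T : Over S) (t : T.left) : Function.Injective ((stF T t).map (toGod P)) := by
  rw [injective_iff_map_eq_zero]
  intro a ha
  obtain ⟨U, ht, x, rfl⟩ := exists_gm P a
  have h3 := TopCat.Presheaf.stalkFunctor_map_germ_apply (C := AddCommGrpCat.{u}) U t ht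
    (Functor.whiskerLeft (subF T).op (toGod P)) x
  have h4 : gm (God P) T t U ht ((toGod P).app _ x) = 0 := h3.symm.trans ha
  obtain ⟨W, hW, hWU, e⟩ := gm_eq_zero (God P) ht _ h4
  have h5 : (toGod P).app _ (P.map (subMap T hWU).op x) = 0 := by
    rw [← e]
    exact ConcreteCategory.congr_hom ((toGod P).naturality (subMap T hWU).op) x
  have h6 : gl P (sub T W) (⟨t, hW⟩ : W) (P.map (subMap T hWU).op x) = 0 := congr_fun h5 (⟨t, hW⟩ : W)
  obtain ⟨V, hV, e2⟩ := gl_eq_zero P _ h6
  have hle : im T W V ≤ U := fun z hz => hWU hz.1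
  have hle' : im T W V ≤ W := fun z hz => hz.1
  have e3 : P.map (subMap T hle).op x = 0 := by
    have h7 : subMap T hle = imTo T W V ≫ subι (sub T W) V ≫ subMap T hWU :=
      sub_hom_ext (by simp)
    rw [h7, ← mm, ← mm, e2, map_zero]
  rw [← gm_res P hle ⟨hW, hV⟩, e3, map_zero]


lemma shortExact_stalk (T : Over S) (t : T.left) (n : ℕ) :
    (ShortComplex.mk (((GData P).map (stF T t)).i n) (((GData P).map (stF T t)).p n)
      (((GData P).map (stF T t)).w n)).ShortExact := by
  have h1 : (ShortComplex.mk ((GData P).i n) ((GData P).p n) ((GData P).w n)).Exact := by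
    refine (ShortComplex.exact_iff_of_iso (ShortComplex.isoMk
      (S₁ := ShortComplex.mk (toGod (Q P n)) (Qπ P n) (toGod_Qπ P n))
      (S₂ := ShortComplex.mk ((GData P).i n) ((GData P).p n) ((GData P).w n)) (Iso.refl _) (GX P n).symm
      (Iso.refl _) ?_ ?_)).1 (exact_Q P n)
    · change 𝟙 _ ≫ toGod (Q P n) ≫ (GX P n).inv = _
      rw [Category.id_comp]
      rfl
    · change (GX P n).inv ≫ (GX P n).hom ≫ Qπ P n = Qπ P n ≫ 𝟙 _
      rw [Iso.inv_hom_id_assoc, Category.comp_id]
  have h2 : Epi ((GData P).p n) := by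
    change Epi ((GX P n).hom ≫ Qπ P n)
    infer_instance
  have h3 : Mono ((stF T t).map ((GData P).i n)) := by
    change Mono ((stF T t).map (toGod (Q P n) ≫ (GX P n).inv))
    rw [Functor.map_comp]
    have h4 : Mono ((stF T t).map (toGod (Q P n))) :=
      (AddCommGrpCat.mono_iff_injective _).2 (injective_toGod (Q P n) T t)
    infer_instance
  exact
    { exact := h1.map (stF T t)
      mono_f := h3
      epi_g := inferInstanceAs (Epi ((stF T t).map ((GData P).p n))) }

lemma quasiIso_stResN {T T' : Over S} (h : T' ⟶ T) (t : T'.left) (hP : Function.Bijective (stRes P h t)) :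
    QuasiIso ((NatTrans.mapHomologicalComplex (stResN h t) (up ℤ)).app (G P)) := by
  have h1 := (NatTrans.mapHomologicalComplex (stResN h t) (up ℤ)).naturality (GData P).aug
  have h2 : QuasiIso (((stF T (h.left t)).mapHomologicalComplex (up ℤ)).map (GData P).aug) :=
    quasiIso_map_aug _ _ (shortExact_stalk P T (h.left t))
  have h3 : QuasiIso (((stF T' t).mapHomologicalComplex (up ℤ)).map (GData P).aug) :=
    quasiIso_map_aug _ _ (shortExact_stalk P T' t)
  have h4 : IsIso ((NatTrans.mapHomologicalComplex (stResN h t) (up ℤ)).app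
      ((HomologicalComplex.single _ (up ℤ) 0).obj P)) :=
    isIso_app_single _ _ ((ConcreteCategory.isIso_iff_bijective _).2 hP)
  have h5 : QuasiIso ((NatTrans.mapHomologicalComplex (stResN h t) (up ℤ)).app
      ((HomologicalComplex.single _ (up ℤ) 0).obj ((GData P).q 0)) ≫
        ((stF T' t).mapHomologicalComplex (up ℤ)).map (GData P).aug) := by
    have : QuasiIso ((NatTrans.mapHomologicalComplex (stResN h t) (up ℤ)).app
      ((HomologicalComplex.single _ (up ℤ) 0).obj ((GData P).q 0))) :=
      inferInstanceAs (QuasiIso ((NatTrans.mapHomologicalComplex (stResN h t) (up ℤ)).app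
      ((HomologicalComplex.single _ (up ℤ) 0).obj P)))
    infer_instance
  rw [← h1] at h5
  exact (quasiIso_iff_comp_left _ _).1 h5

end Stalk

section Sheaf

variable (P : (Over S)ᵒᵖ ⥤ AddCommGrpCat.{u})

/-- The Godement complex on a space over `S`, as a complex of sheaves. -/
noncomputable def GS (T : Over S) : CochainComplex (CohTop.Ab T.left) ℤ where
  X j := ⟨psh ((G P).X j) T, K781.Crit.isSheaf_G P j T⟩
  d i j := ⟨Functor.whiskerLeft (subF T).op ((G P).d i j)⟩
  shape i j h := by
    rw [(G P).shape i j h]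
    rfl
  d_comp_d' i j k _ _ := by
    ext : 1
    change Functor.whiskerLeft (subF T).op ((G P).d i j) ≫ Functor.whiskerLeft (subF T).op ((G P).d j k) = _
    rw [← Functor.whiskerLeft_comp, (G P).d_comp_d]
    rfl

/-- Restriction, as a map of complexes of sheaves. -/
noncomputable def rG {T T' : Over S} (h : T' ⟶ T) :
    GS P T ⟶ ((CohTop.push h.left).mapHomologicalComplex (up ℤ)).obj (GS P T') where
  f j := ⟨resP ((G P).X j) h⟩
  comm' i j _ := by
    refine Sheaf.hom_ext (NatTrans.ext (funext fun U => ?_))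
    exact (((G P).d i j).naturality
      (subRes h ((Opens.map h.left).obj U.unop) U.unop (fun _ hx => hx)).op)

/-- The map from the inverse image. -/
noncomputable def aG {T T' : Over S} (h : T' ⟶ T) :
    ((CohTop.pull h.left).mapHomologicalComplex (up ℤ)).obj (GS P T) ⟶ GS P T' where
  f j := ((adj h.left).homEquiv _ _).symm ((rG P h).f j)
  comm' i j _ := by
    change _ ≫ (GS P T').d i j = (CohTop.pull h.left).map ((GS P T).d i j) ≫ _
    rw [← Adjunction.homEquiv_naturality_right_symm, ← Adjunction.homEquiv_naturality_left_symm]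
    exact congrArg _ ((rG P h).comm i j)

/-- The map from the inverse image, on sections. -/
lemma aG_pb {T T' : Over S} (h : T' ⟶ T) (j : ℤ) (U : Opens T.left) (x : Γs ((GS P T).X j) U) :
    m ((aG P h).f j) ((Opens.map h.left).obj U) (pb h.left ((GS P T).X j) U x) =
      ((G P).X j).map (subRes h ((Opens.map h.left).obj U) U (fun _ hx => hx)).op x := by
  have h1 : (adj h.left).homEquiv _ _ ((aG P h).f j) = (rG P h).f j := Equiv.apply_symm_apply _ _
  rw [Adjunction.homEquiv_unit] at h1
  exact congrArg (fun φ => m φ U x) h1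

/-- The map from the inverse image, on stalks. -/
lemma stalkComp_aG {T T' : Over S} (h : T' ⟶ T) (t : T'.left) (j : ℤ) :
    (stalkComp h.left t).app ((GS P T).X j) ≫ (stalkF t).map ((aG P h).f j) = stRes ((G P).X j) h t := by
  refine stalk_hom_ext fun U hU => ?_
  ext x
  have h1 := sc_gm h.left ((GS P T).X j) t U hU x
  have h2 := sm_gm ((aG P h).f j) (U := (Opens.map h.left).obj U) t hU (pb h.left ((GS P T).X j) U x)
  have h3 := stRes_gm ((G P).X j) h t U hU ((Opens.map h.left).obj U) hU (fun _ hx => hx) x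
  refine Eq.trans ?_ h3.symm
  refine (congrArg (sm ((aG P h).f j) t) h1).trans (h2.trans ?_)
  exact congrArg (gm ((GS P T').X j) (U := (Opens.map h.left).obj U) t hU) (aG_pb P h j U x)

theorem quasiIso_aG (hP : IsCart P) {T T' : Over S} (h : T' ⟶ T) : QuasiIso (aG P h) := by
  refine quasiIso_of_stalks _ fun t => ?_
  have h1 : QuasiIso ((NatTrans.mapHomologicalComplex (stResN h t) (up ℤ)).app (G P)) :=
    quasiIso_stResN P h t (hP T T' h t)
  have h2 : IsIso ((NatTrans.mapHomologicalComplex (stalkComp h.left t) (up ℤ)).app (GS P T)) := by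
    have : ∀ n, IsIso (((NatTrans.mapHomologicalComplex (stalkComp h.left t) (up ℤ)).app (GS P T)).f n) :=
      fun n => isIso_stalkComp_app h.left t ((GS P T).X n)
    exact HomologicalComplex.Hom.isIso_of_components _
  have h3 : (NatTrans.mapHomologicalComplex (stalkComp h.left t) (up ℤ)).app (GS P T) ≫
      ((stk t).mapHomologicalComplex (up ℤ)).map (aG P h) =
        (NatTrans.mapHomologicalComplex (stResN h t) (up ℤ)).app (G P) := by
    ext j : 1
    exact stalkComp_aG P h t j
  have h4 : QuasiIso ((NatTrans.mapHomologicalComplex (stalkComp h.left t) (up ℤ)).app (GS P T) ≫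
      ((stk t).mapHomologicalComplex (up ℤ)).map (aG P h)) := by
    rw [h3]
    exact h1
  exact (quasiIso_iff_comp_left _ _).1 h4

end Sheaf

section Lam

variable {X Y : TopCat.{u}} (f : X ⟶ Y) (y : Y)

instance isIso_germTop' : IsIso (germTop (TopCat.of (f ⁻¹' {y}))) := isIso_germTop _

instance isIso_germTop_app (Z : TopCat.{u}) (F : CohTop.Ab Z) : IsIso ((germTop Z).app F) := inferInstance

/-- The map from the stalk of the direct image to the global sections over the fibre. -/
noncomputable def lam : CohTop.push f ⋙ stalkF y ⟶ CohTop.pull (fib f y) ⋙ Γtop (TopCat.of (f ⁻¹' {y})) :=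
  Functor.whiskerLeft (CohTop.push f) (stalkComp (ofPt y) PUnit.unit) ≫
    Functor.whiskerRight (β (fib f y) (toPt _) f (ofPt y) (fib_comp f y)) (stalkF (PUnit.unit : pt.{u})) ≫
      Functor.whiskerLeft (CohTop.pull (fib f y)) (inv (germTop _))

lemma isIso_lam (hf : IsProperMap f)
    (hs : ∀ x x' : X, f x = f x' → x ≠ x' → ∃ U V : Set X, IsOpen U ∧ IsOpen V ∧ x ∈ U ∧ x' ∈ V ∧
      Disjoint U V) : IsIso (lam f y) := by
  have hβ : IsIso (β (fib f y) (toPt _) f (ofPt y) (fib_comp f y)) :=
    isIso_β _ _ _ _ (fib_comp f y) hf (isPB_fib f y) hs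
  unfold lam
  infer_instance

lemma germTop_lam (F : CohTop.Ab X) (ξ : St ((CohTop.push f).obj F) y) :
    (germTop _).app ((CohTop.pull (fib f y)).obj F) ((lam f y).app F ξ) =
      Λ (fib f y) (toPt _) f (ofPt y) (fib_comp f y) F (PUnit.unit : pt.{u}) ξ := by
  have h1 : (lam f y).app F ≫ (germTop _).app ((CohTop.pull (fib f y)).obj F) =
      (stalkComp (ofPt y) PUnit.unit).app ((CohTop.push f).obj F) ≫
        (stalkF (PUnit.unit : pt.{u})).map ((β (fib f y) (toPt _) f (ofPt y) (fib_comp f y)).app F) := by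
    unfold lam
    rw [NatTrans.comp_app, NatTrans.comp_app, Category.assoc, Category.assoc, Functor.whiskerLeft_app,
      Functor.whiskerLeft_app, Functor.whiskerRight_app, ← NatTrans.comp_app, IsIso.inv_hom_id,
      NatTrans.id_app]
    exact congrArg (fun k => (stalkComp (ofPt y) PUnit.unit).app ((CohTop.push f).obj F) ≫ k) (Category.comp_id _)
  exact ConcreteCategory.congr_hom h1 ξ

open Groth.Agent.CohtopA.NbhdColim in
lemma lam_gm (F : CohTop.Ab X) (V : Opens Y) (hy : y ∈ V) (hV : ∀ z, fib f y z ∈ (Opens.map f).obj V)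
    (t : Γs F ((Opens.map f).obj V)) :
    (lam f y).app F (gm ((CohTop.push f).obj F) y hy t) = pbT (fib f y) F hV t := by
  have hinj : Function.Injective ((germTop _).app ((CohTop.pull (fib f y)).obj F)) :=
    ((ConcreteCategory.isIso_iff_bijective _).1 (isIso_germTop_app _ _)).1
  apply hinj
  have h1 := Λ_gm (fib f y) (toPt _) f (ofPt y) (fib_comp f y) F (PUnit.unit : pt.{u}) V hy t
  refine (germTop_lam f y F _).trans (h1.trans ?_)
  have h2 := gm_r (F := (CohTop.push (toPt _)).obj ((CohTop.pull (fib f y)).obj F)) (U := ⊤)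
    (V := (Opens.map (ofPt y)).obj V) le_top (PUnit.unit : pt.{u}) hy (pbT (fib f y) F hV t)
  refine Eq.trans ?_ h2
  congr 1
  rw [pbT_apply]
  exact (r_r (F := (CohTop.pull (fib f y)).obj F) _ _ _).symm

end Lam

section Main

variable (P : (Over S)ᵒᵖ ⥤ AddCommGrpCat.{u}) (T : Over S) (s : S)

/-- The comparison of sections over a space and its largest open subset. -/
noncomputable abbrev evTop (T : Over S) : (evaluation _ AddCommGrpCat.{u}).obj (op T) ⟶
    (evaluation _ AddCommGrpCat.{u}).obj (op (sub T ⊤)) := (evaluation _ AddCommGrpCat.{u}).map (subι T ⊤).op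

instance (T : Over S) : IsIso (subι T ⊤) := by
  have h : IsIso (subι T ⊤).left := by
    have : Topology.IsOpenEmbedding (subι T ⊤).left := (⊤ : Opens T.left).isOpenEmbedding
    have h2 : Function.Surjective (subι T ⊤).left := fun x => ⟨⟨x, trivial⟩, rfl⟩
    exact TopCat.isIso_of_bijective_of_isOpenMap _ ⟨this.injective, h2⟩ this.isOpenMap
  have h2 : IsIso ((Over.forget S).map (subι T ⊤)) := h
  exact isIso_of_reflects_iso _ (Over.forget S)

open Groth.Agent.CohtopA.NbhdColim in
lemma toFib_lam (j : ℤ) : (toFib T s).app ((G P).X j) ≫ (evTop (fibre T s)).app ((G P).X j) =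
    (lam T.hom s).app ((GS P T).X j) ≫ (Γ (⊤ : Opens (fibre T s).left)).map ((aG P (fibι T s)).f j) := by
  refine TopCat.Presheaf.stalk_hom_ext _ fun U hU => ?_
  ext x
  have hV : ∀ z, fib T.hom s z ∈ (Opens.map T.hom).obj U := fun z => mem_over T s U hU z
  have h1 := ConcreteCategory.congr_hom (germ_toFibApp T s ((G P).X j) U hU) x
  have h2 := lam_gm T.hom s ((GS P T).X j) U hU hV x
  have h3 := aG_pb P (fibι T s) j (over T U) x
  have h4 := m_r ((aG P (fibι T s)).f j) (U := (Opens.map (fibι T s).left).obj (over T U)) (V := ⊤)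
    (fun z _ => hV z) (pb (fibι T s).left ((GS P T).X j) (over T U) x)
  refine (congrArg ((evTop (fibre T s)).app ((G P).X j)) h1).trans ?_
  refine Eq.trans ?_ (congrArg (m ((aG P (fibι T s)).f j) ⊤) h2).symm
  rw [pbT_apply]
  refine Eq.trans ?_ h4.symm
  refine Eq.trans ?_ (congrArg (r ((GS P (fibre T s)).X j) (U := (Opens.map (fibι T s).left).obj (over T U)) (V := ⊤)
    (fun z _ => hV z)) h3).symm
  have hle : (⊤ : Opens (fibre T s).left) ≤ (Opens.map (fibι T s).left).obj (over T U) := fun z _ => hV z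
  change ((G P).X j).map (subι (fibre T s) ⊤).op (((G P).X j).map (fibTo T s U hU).op x) =
    ((G P).X j).map (subMap (fibre T s) hle).op
      (((G P).X j).map (subRes (fibι T s) ((Opens.map (fibι T s).left).obj (over T U)) (over T U)
        (fun _ hx => hx)).op x)
  rw [mm, mm]
  congr 3

lemma isIso_app_complex {A B : Type*} [Category* A] [Category* B] [Preadditive A] [Preadditive B] {F F' : A ⥤ B}
    [F.Additive] [F'.Additive] (α : F ⟶ F') (K : CochainComplex A ℤ) (h : ∀ n, IsIso (α.app (K.X n))) :
    IsIso ((NatTrans.mapHomologicalComplex α (up ℤ)).app K) := by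
  have : ∀ n, IsIso (((NatTrans.mapHomologicalComplex α (up ℤ)).app K).f n) := h
  exact HomologicalComplex.Hom.isIso_of_components _

lemma bb_GS (T : Over S) : BB (GS P T) := ⟨0, fun j hj => by
  rw [IsZero.iff_id_eq_zero]
  refine Sheaf.hom_ext ?_
  exact (((Functor.whiskeringLeft _ _ AddCommGrpCat.{u}).obj (subF T).op).map_isZero (G_neg P j hj)).eq_of_src _ _⟩

/-- **Proper base change for the Godement complex.** -/
theorem quasiIso_toFib {S : TopCat.{u}} (T : Over S) (hT : IsProperMap T.hom)
    (hs : ∀ x x' : T.left, T.hom x = T.hom x' → x ≠ x' → ∃ U V : Set T.left, IsOpen U ∧ IsOpen V ∧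
      x ∈ U ∧ x' ∈ V ∧ Disjoint U V)
    (P : (Over S)ᵒᵖ ⥤ AddCommGrpCat.{u}) (hP : IsCart P) (s : S) :
    QuasiIso ((NatTrans.mapHomologicalComplex (toFib T s) (up ℤ)).app (G P)) := by
  have hcomp : CompactSpace (fibre T s).left :=
    isCompact_iff_compactSpace.1 (hT.isCompact_preimage isCompact_singleton)
  have hrel : Groth.Agent.CohtopA.RelT2.IsRelT2 (T.hom ⁻¹' {s}) := by
    intro a ha b hb hab
    exact hs _ _ (Eq.trans ha (Eq.symm hb)) hab
  have hT2 : T2Space (fibre T s).left := hrel.t2Space
  have hq : QuasiIso (aG P (fibι T s)) := quasiIso_aG P hP (fibι T s)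
  have hD : QuasiIso (((Γ (⊤ : Opens (fibre T s).left)).mapHomologicalComplex (up ℤ)).map (aG P (fibι T s))) := by
    refine K760.SoftGlob.quasiIso_sections ?_ (bb_GS P _) ?_ ?_ _
    · obtain ⟨a, ha⟩ := bb_GS P T
      exact ⟨a, fun i hi => (CohTop.pull (fibι T s).left).map_isZero (ha i hi)⟩
    · intro n
      have : TopCat.Sheaf.IsFlasque ((GS P T).X n) := K781.Crit.isFlasque_G P n T
      exact isSoft_pull ((GS P T).X n) (fibι T s).left Topology.IsEmbedding.subtypeVal
        (isRelT2_fib T.hom hs s)
    · intro n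
      have : TopCat.Sheaf.IsFlasque ((GS P (fibre T s)).X n) := K781.Crit.isFlasque_G P n (fibre T s)
      exact isSoft_of_isFlasque _
  have hadd0 : (Γtop (TopCat.of (T.hom ⁻¹' {s}))).Additive :=
    inferInstanceAs (Γ (⊤ : Opens (TopCat.of (T.hom ⁻¹' {s})))).Additive
  have hadd1 : (CohTop.pull (fib T.hom s)).Additive := additive_pull _
  have hadd2 : (CohTop.pull (fib T.hom s) ⋙ Γtop (TopCat.of (T.hom ⁻¹' {s}))).Additive := inferInstance
  have hadd3 : (CohTop.push T.hom ⋙ stalkF s).Additive := inferInstance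
  have hl : IsIso (lam T.hom s) := isIso_lam T.hom s hT hs
  have hC : IsIso ((NatTrans.mapHomologicalComplex (lam T.hom s) (up ℤ)).app (GS P T)) :=
    isIso_app_complex _ _ fun n => inferInstance
  have hB : IsIso ((NatTrans.mapHomologicalComplex (evTop (fibre T s)) (up ℤ)).app (G P)) :=
    isIso_app_complex _ _ fun n => inferInstance
  have key : (NatTrans.mapHomologicalComplex (toFib T s) (up ℤ)).app (G P) ≫
      (NatTrans.mapHomologicalComplex (evTop (fibre T s)) (up ℤ)).app (G P) =
      (NatTrans.mapHomologicalComplex (lam T.hom s) (up ℤ)).app (GS P T) ≫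
        ((Γ (⊤ : Opens (fibre T s).left)).mapHomologicalComplex (up ℤ)).map (aG P (fibι T s)) := by
    ext j : 1
    exact toFib_lam P T s j
  have h : QuasiIso ((NatTrans.mapHomologicalComplex (toFib T s) (up ℤ)).app (G P) ≫
      (NatTrans.mapHomologicalComplex (evTop (fibre T s)) (up ℤ)).app (G P)) := by
    rw [key]
    infer_instance
  exact (quasiIso_iff_comp_right _ _).1 h

end Main

end K760.PBC
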