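import Groth.Agent.FibDesc.K166.Flq
import Groth.Agent.CohtopA.ProperBCHigher

/-!
# Quasi-isomorphisms of complexes of soft sheaves on a compact Hausdorff space
-/

set_option autoImplicit false
set_option backward.isDefEq.respectTransparency false
set_option backward.isDefEq.respectTransparency.types false

universe v u

open CategoryTheory CategoryTheory.Limits ComplexShape Opposite TopologicalSpace K781.Desc K781.Flq
open Groth.Agent.CohtopA.Sec Groth.Agent.CohtopA.ColimSections Groth.Agent.CohtopA.Germ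
open Groth.Agent.CohtopA.Soft

namespace K760.SoftGlob

variable {X : TopCat.{u}}

/-- Global sections are exact on short exact sequences with soft kernel. -/
theorem shortExact_sections [CompactSpace X] [T2Space X] {S : ShortComplex (Sh X)} (hS : S.ShortExact)
    (h : IsSoft S.X₁) : (S.map (Γ (⊤ : Opens X))).ShortExact := by
  have := hS.mono_f
  have : Mono (S.map (Γ (⊤ : Opens X))).f := inferInstanceAs (Mono ((Γ (⊤ : Opens X)).map S.f))
  have h3 : (S.map (Γ (⊤ : Opens X))).Exact := by
    have := ((Γ (X := X) ⊤).preservesFiniteLimits_tfae.out 3 1 :)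
    exact ((this.1 inferInstance) S ⟨hS.exact, inferInstance⟩).1
  have h4 : Epi (S.map (Γ (⊤ : Opens X))).g := by
    rw [AddCommGrpCat.epi_iff_surjective]
    exact surjective_of_isSoft hS h
  exact { exact := h3 }

theorem soft_of_isZero (F : Sh X) (hF : IsZero F) : IsSoft F := by
  have := hF.injective
  have : TopCat.Sheaf.IsFlasque F := isFlasque_of_injective F
  exact isSoft_of_isFlasque F

/-- In a bounded below acyclic complex of soft sheaves all cycles are soft. -/
theorem soft_cycles [CompactSpace X] [T2Space X] {K : CochainComplex (Sh X) ℤ} (hK : BB K) (hac : K.Acyclic)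
    (fK : ∀ n, IsSoft (K.X n)) (p : ℤ) : IsSoft (K.cycles p) := by
  obtain ⟨a, ha⟩ := hK
  have h : ∀ (m : ℕ) (p : ℤ) (_ : p ≤ a - 1 + m), IsSoft (K.cycles p) := by
    intro m
    induction m with
    | zero =>
      intro p hp
      have h0 : IsZero (K.X p) := ha p (by simp at hp; lia)
      have h1 : IsZero (K.cycles p) := by
        rw [IsZero.iff_id_eq_zero, ← cancel_mono (K.iCycles p)]
        exact h0.eq_of_tgt _ _
      exact soft_of_isZero _ h1
    | succ m ih =>
      intro p hp
      exact isSoft_X₃ (Groth.Agent.Cohder.RDAcyc.cycles_shortExact hac (p - 1) p (by lia))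
        (ih (p - 1) (by push_cast at hp; lia)) (fK _)
  exact h (p - (a - 1)).toNat p (by have := Int.self_le_toNat (p - (a - 1)); lia)

open Groth.Agent.Cohder.RDAcyc in
/-- Global sections of a bounded below acyclic complex of soft sheaves are acyclic. -/
theorem acyclic_sections [CompactSpace X] [T2Space X] {K : CochainComplex (Sh X) ℤ} (hK : BB K) (hac : K.Acyclic)
    (fK : ∀ n, IsSoft (K.X n)) :
    (((Γ (⊤ : Opens X)).mapHomologicalComplex (up ℤ)).obj K).Acyclic := by
  intro q
  have h1 := shortExact_sections (cycles_shortExact hac (q - 1) q (by lia))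
    (soft_cycles hK hac fK _)
  have h2 := shortExact_sections (cycles_shortExact hac q (q + 1) rfl)
    (soft_cycles hK hac fK _)
  have h3 : Mono ((Γ (⊤ : Opens X)).map (K.iCycles (q + 1))) := inferInstance
  have h4 : Epi ((Γ (⊤ : Opens X)).map (K.toCycles (q - 1) q)) := h1.epi_g
  rw [HomologicalComplex.exactAt_iff' _ (q - 1) q (q + 1) (by simp) (by simp)]
  exact exact_of_factor ((Γ (⊤ : Opens X)).map (K.toCycles (q - 1) q)) ((Γ (⊤ : Opens X)).map (K.iCycles q))
    ((Γ (⊤ : Opens X)).map (K.toCycles q (q + 1))) ((Γ (⊤ : Opens X)).map (K.iCycles (q + 1)))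
    (by rw [← (Γ (⊤ : Opens X)).map_comp, iCycles_toCycles, (Γ (⊤ : Opens X)).map_zero]) h2.exact h4 h3 _ _
    (by rw [← (Γ (⊤ : Opens X)).map_comp, HomologicalComplex.toCycles_i]; rfl)
    (by rw [← (Γ (⊤ : Opens X)).map_comp, HomologicalComplex.toCycles_i]; rfl)
    (HomologicalComplex.d_comp_d _ _ _ _)

/-- The biproduct of two soft sheaves is soft. -/
theorem soft_biprod (F G : Sh X) (hF : IsSoft F) (hG : IsSoft G) : IsSoft (F ⊞ G) := by
  intro K V hV t hK
  obtain ⟨a, ha⟩ := hF K V hV (m (biprod.fst : F ⊞ G ⟶ F) V t) hK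
  obtain ⟨b, hb⟩ := hG K V hV (m (biprod.snd : F ⊞ G ⟶ G) V t) hK
  refine ⟨m (biprod.inl : F ⟶ F ⊞ G) ⊤ a + m (biprod.inr : G ⟶ F ⊞ G) ⊤ b, fun x hx => ?_⟩
  rw [map_add, ← sm_gm, ← sm_gm, ha x hx, hb x hx, sm_gm, sm_gm, ← map_add]
  congr 1
  have h := congrArg (fun φ : F ⊞ G ⟶ F ⊞ G => m φ V t) (biprod.total (X := F) (Y := G))
  exact h

/-- Bounded below complexes of soft sheaves. -/
def BS (X : TopCat.{u}) : ObjectProperty (CochainComplex (Sh X) ℤ) :=
  fun K => BB K ∧ ∀ n, IsSoft (K.X n)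

theorem bs_cone {K L : CochainComplex (Sh X) ℤ} (f : K ⟶ L) (hK : BS X K) (hL : BS X L) :
    BS X (CochainComplex.mappingCone f) := by
  obtain ⟨⟨a, ha⟩, fK⟩ := hK
  obtain ⟨⟨b, hb⟩, fL⟩ := hL
  refine ⟨⟨min (a - 1) b, fun i hi => ?_⟩, fun n => ?_⟩
  · refine IsZero.of_iso ?_ (coneXIso f i)
    rw [biprod_isZero_iff]
    exact ⟨ha _ (by lia), hb _ (by lia)⟩
  · exact Groth.Agent.CohtopA.ProperBCHigher.isSoft_of_iso (coneXIso f n).symm (soft_biprod _ _ (fK _) (fL _))

/-- Quasi-isomorphisms between bounded below complexes of soft sheaves on a compact Hausdorff space induce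
quasi-isomorphisms on global sections. -/
theorem quasiIso_sections [CompactSpace X] [T2Space X]
    {K L : CochainComplex (Sheaf (Opens.grothendieckTopology X) AddCommGrpCat.{u}) ℤ}
    (hK : BB K) (hL : BB L) (fK : ∀ n, IsSoft (K.X n)) (fL : ∀ n, IsSoft (L.X n))
    (f : K ⟶ L) [hf : QuasiIso f] : QuasiIso (((Γ (⊤ : Opens X)).mapHomologicalComplex (up ℤ)).map f) :=
  Groth.Agent.Dcoh.DerHo.quasiIso_map_of_acyclic (Γ (⊤ : Opens X)) (BS X) bs_cone
    (fun _ hK hac => acyclic_sections hK.1 hac hK.2) f ⟨hK, fK⟩ ⟨hL, fL⟩ hf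

end K760.SoftGlob
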